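import Groth.Prelude.Def_Red2
import Groth.Agent.Lib.Flag27.ParabolicS
import Groth.Agent.Lib.SecLocus.Connected
import Groth.Agent.Lib.CotTangent.Components
import Groth.Agent.Lib.Dim.Scheme
import Groth.Agent.Lib.Dim.QuasiFinite

/-!
# Fibre dimensions of smooth groups with connected geometric fibres
-/

set_option autoImplicit false
set_option linter.style.haveILetI false
set_option backward.isDefEq.respectTransparency false

universe u

open CategoryTheory CategoryTheory.Limits MonoidalCategory CartesianMonoidalCategory MonObj GrpObj AlgebraicGeometry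

namespace GrothLib.MinParablead

/-- The relative dimension of a smooth morphism, locally. -/
theorem exists_relDim {X Y : Scheme.{u}} (f : X ⟶ Y) [Smooth f] (x : X) :
    ∃ (U : X.Opens) (n : ℕ), x ∈ U ∧ SmoothOfRelativeDimension n (U.ι ≫ f) := by
  obtain ⟨W, hW, V, hV, hx, e, hs⟩ := Smooth.exists_isStandardSmooth f x
  obtain ⟨n, hn⟩ : ∃ n, RingHom.IsStandardSmoothOfRelativeDimension n (f.appLE W V e).hom := by
    letI := (f.appLE W V e).hom.toAlgebra
    haveI : Algebra.IsStandardSmooth Γ(Y, W) Γ(X, V) := hs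
    obtain ⟨I₀, J₀, _, _, ⟨P⟩⟩ := ‹Algebra.IsStandardSmooth Γ(Y, W) Γ(X, V)›
    exact ⟨P.dimension, ⟨⟨I₀, J₀, inferInstance, inferInstance, P, rfl⟩⟩⟩
  refine ⟨V, n, hx, ⟨fun y => ?_⟩⟩
  have e' : (⊤ : (V : Scheme.{u}).Opens) ≤ (V.ι ≫ f) ⁻¹ᵁ W := fun z _ => e z.2
  haveI : IsAffine (V : Scheme.{u}) := hV
  refine ⟨W, hW, ⊤, isAffineOpen_top _, trivial, e', ?_⟩
  have heq : (V.ι ≫ f).appLE W ⊤ e' = f.appLE W V e ≫ V.topIso.inv := by
    simp [Scheme.Hom.appLE, Scheme.Opens.topIso_inv, ← Functor.map_comp]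
    rfl
  rw [heq]
  exact RingHom.isStandardSmoothOfRelativeDimension_respectsIso.1 _ V.topIso.symm.commRingCatIsoToRingEquiv hn

/-- The dimension of the geometric fibres is locally constant. -/
theorem isLocallyConstant_geomDim {S : Scheme.{u}} {P : Over S} [GrpObj P] [Smooth P.hom] [QuasiCompact P.hom]
    (hconn : ∀ s : S, ConnectedSpace (Red.geomFibre s P).left) :
    IsLocallyConstant fun s : S => topologicalKrullDim ↥(Red.geomFibre s P).left := by
  refine (IsLocallyConstant.iff_exists_open _).2 fun s₀ => ?_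
  let e₀ : S ⟶ P.left := (η[P]).left
  have hη : ∀ s, P.hom (e₀ s) = s := fun s => by
    rw [← Scheme.Hom.comp_apply, Over.w η[P]]
    rfl
  obtain ⟨U, n, hU, hn⟩ := exists_relDim P.hom (e₀ s₀)
  have key : ∀ s, e₀ s ∈ U → topologicalKrullDim ↥(Red.geomFibre s P).left = n := by
    intro s hs
    haveI := hconn s
    let F : Scheme.{u} := pullback P.hom (Red.geomPt s)
    let a : F ⟶ P.left := pullback.fst P.hom (Red.geomPt s)
    let b : F ⟶ Spec (CommRingCat.of (AlgebraicClosure (S.residueField s))) := pullback.snd P.hom (Red.geomPt s)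
    haveI : Smooth b := MorphismProperty.pullback_snd _ _ inferInstance
    haveI : QuasiCompact b := MorphismProperty.pullback_snd _ _ inferInstance
    haveI : CompactSpace F := QuasiCompact.compactSpace_of_compactSpace b
    haveI : ConnectedSpace F := hconn s
    haveI : IrreducibleSpace F := SecLocus.irreducibleSpace_of_smooth_connected _ b
    haveI : IsLocallyNoetherian F := LocallyOfFiniteType.isLocallyNoetherian b
    haveI : IsNoetherian F := { }
    obtain ⟨z, hz, -⟩ := Scheme.Pullback.exists_preimage_pullback (f := P.hom) (g := Red.geomPt s) (e₀ s) default (by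
      rw [hη, Scheme.Hom.comp_apply]
      exact (S.fromSpecResidueField_apply s _).symm)
    have hzU : z ∈ a ⁻¹ᵁ U := by
      show a z ∈ U
      rw [show a z = e₀ s from hz]; exact hs
    have hpb : IsPullback (a ∣_ U) ((a ⁻¹ᵁ U).ι ≫ b) (U.ι ≫ P.hom) (Red.geomPt s) :=
      (isPullback_morphismRestrict a U).paste_vert (IsPullback.of_hasPullback P.hom (Red.geomPt s))
    haveI := smoothOfRelativeDimension_isStableUnderBaseChange.{u} (n := n)
    haveI : SmoothOfRelativeDimension n ((a ⁻¹ᵁ U).ι ≫ b) :=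
      MorphismProperty.of_isPullback (P := @SmoothOfRelativeDimension n) hpb hn
    haveI : CompactSpace ↥(a ⁻¹ᵁ U) := isCompact_iff_compactSpace.mp (TopologicalSpace.NoetherianSpace.isCompact ((a ⁻¹ᵁ U : F.Opens) : Set F))
    haveI : Nonempty ↥(a ⁻¹ᵁ U) := ⟨⟨z, hzU⟩⟩
    haveI : IrreducibleSpace ↥((a ⁻¹ᵁ U) : Scheme.{u}) := isIrreducible_iff_irreducibleSpace.mp
      ⟨⟨z, hzU⟩, (IrreducibleSpace.isIrreducible_univ F).2.open_subset (a ⁻¹ᵁ U).2 (Set.subset_univ _)⟩
    haveI : Smooth ((a ⁻¹ᵁ U).ι ≫ b) := SmoothOfRelativeDimension.smooth n _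
    haveI : IsReduced ((a ⁻¹ᵁ U) : Scheme.{u}) := RedSmooth.isReduced_of_smooth ((a ⁻¹ᵁ U).ι ≫ b)
    haveI : IsIntegral ((a ⁻¹ᵁ U) : Scheme.{u}) := isIntegral_of_irreducibleSpace_of_isReduced _
    have hd := CotTangent.topologicalKrullDim_integral_of_smoothOfRelativeDimension ((a ⁻¹ᵁ U).ι ≫ b) n
    obtain ⟨m, hm, hmU⟩ := Dim.exists_nat_dim_irreducible b isClosed_univ (IrreducibleSpace.isIrreducible_univ _)
    have h1 : topologicalKrullDim (Set.univ ∩ ((a ⁻¹ᵁ U : F.Opens) : Set F) : Set F) = m :=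
      hmU _ ⟨z, trivial, hzU⟩
    rw [Set.univ_inter] at h1
    show topologicalKrullDim F = n
    rw [← Dim.topologicalKrullDim_univ, hm, ← h1]
    exact hd
  refine ⟨e₀ ⁻¹ᵁ U, (e₀ ⁻¹ᵁ U).2, hU, fun s hs => ?_⟩
  exact (key s hs).trans (key s₀ hU).symm

/-- A closed immersion between smooth connected schemes of the same dimension is an isomorphism. -/
theorem isIso_of_dim_eq {K : Type u} [Field K] {A B : Scheme.{u}} (g : A ⟶ B) [IsClosedImmersion g]
    (b : B ⟶ Spec (CommRingCat.of K)) [Smooth b] [ConnectedSpace B] [Smooth (g ≫ b)] [ConnectedSpace A]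
    (h : topologicalKrullDim A = topologicalKrullDim B) : IsIso g := by
  haveI : IrreducibleSpace B := SecLocus.irreducibleSpace_of_smooth_connected K b
  haveI : IrreducibleSpace A := SecLocus.irreducibleSpace_of_smooth_connected K (g ≫ b)
  haveI : IsReduced B := RedSmooth.isReduced_of_smooth b
  obtain ⟨m, hm, -⟩ := Dim.exists_nat_dim_irreducible (g ≫ b) isClosed_univ (IrreducibleSpace.isIrreducible_univ _)
  have hA : topologicalKrullDim A = m := (Dim.topologicalKrullDim_univ A).symm.trans hm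
  have he : topologicalKrullDim (Set.range g : Set B) = topologicalKrullDim A :=
    (Dim.IsEmbedding.topologicalKrullDim_eq g.isClosedEmbedding.isEmbedding rfl).symm
  have hr := Dim.eq_univ_of_dim_le g.isClosedEmbedding.isClosed_range (by rw [he, h]) (he.trans hA)
  haveI : Surjective g := ⟨Set.range_eq_univ.1 hr⟩
  exact isIso_of_isClosedImmersion_of_surjective g

end GrothLib.MinParablead
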