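import Groth.Agent.Lib.MinParablead.Dim
import Groth.Agent.Lib.Flag27.Conj
import Groth.Agent.Lib.Flag27.ParabolicBC

/-!
# Minimal parabolic subgroups over a connected base
-/

set_option autoImplicit false
set_option linter.style.haveILetI false
set_option backward.isDefEq.respectTransparency false

universe u

open CategoryTheory CategoryTheory.Limits MonoidalCategory CartesianMonoidalCategory MonObj GrpObj AlgebraicGeometry

namespace GrothLib.MinParablead

variable {S : Scheme.{u}} {G : Over S} [GrpObj G]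

theorem connectedSpace_geomFibre (hG : Red.IsReductive G) {P : Over S} [GrpObj P] {p : P ⟶ G}
    (hP : Red.IsParabolic p) (s : S) : ConnectedSpace (Red.geomFibre s P).left := by
  obtain ⟨haff, hsm, hred⟩ := hG
  obtain ⟨hm, hc, hs, hgeo⟩ := hP
  obtain ⟨ha', hsm', hconn', -⟩ := hred s
  obtain ⟨hm', hc', hs', B, _, e, hB⟩ := hgeo s
  haveI := ha'; haveI := hsm'; haveI := hconn'; haveI := hm'; haveI := hc'; haveI := hs'
  exact Flag27.connectedSpace_parabolic e hB

theorem isParabolic_id (hG : Red.IsReductive G) : Red.IsParabolic (𝟙 G) := by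
  obtain ⟨haff, hsm, hred⟩ := hG
  refine ⟨inferInstance, ?_, hsm, fun s => ?_⟩
  · rw [Over.id_left]; infer_instance
  · obtain ⟨ha', hsm', hconn', -⟩ := hred s
    haveI := ha'; haveI := hsm'; haveI := hconn'
    rw [CategoryTheory.Functor.map_id]
    refine ⟨inferInstance, by rw [Over.id_left]; infer_instance, hsm', ?_⟩
    obtain ⟨B, iB, i, hB, -⟩ := Flag27.exists_borel (G := Red.geomFibre s G)
    exact ⟨B, iB, i, by rw [Category.comp_id]; exact hB⟩

theorem exists_minimal [ConnectedSpace S] (hG : Red.IsReductive G) :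
    ∃ (P : Over S) (_ : GrpObj P) (p : P ⟶ G), Red.IsParabolic p ∧
      ∀ (P₁ : Over S) [GrpObj P₁] (p₁ : P₁ ⟶ G) (f : P₁ ⟶ P), Red.IsParabolic p₁ → f ≫ p = p₁ → IsIso f := by
  obtain ⟨haff, hsm, hred⟩ := id hG
  haveI := haff; haveI := hsm
  haveI : QuasiCompact G.hom := inferInstance
  obtain ⟨s₀⟩ := (inferInstance : Nonempty S)
  classical
  let Q : ℕ → Prop := fun d => ∃ (P : Over S) (_ : GrpObj P) (p : P ⟶ G), Red.IsParabolic p ∧
    topologicalKrullDim ↥(Red.geomFibre s₀ P).left = d
  have hdim : ∀ (P : Over S) [GrpObj P] (p : P ⟶ G), Red.IsParabolic p →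
      ∃ d : ℕ, topologicalKrullDim ↥(Red.geomFibre s₀ P).left = d := by
    intro P _ p hp
    obtain ⟨hm, hc, hs, -⟩ := id hp
    haveI := hc; haveI := hs
    haveI := connectedSpace_geomFibre hG hp s₀
    haveI : Smooth (Red.geomFibre s₀ P).hom := MorphismProperty.pullback_snd _ _ inferInstance
    haveI := SecLocus.irreducibleSpace_of_smooth_connected _ (Red.geomFibre s₀ P).hom
    obtain ⟨d, hd, -⟩ := Dim.exists_nat_dim_irreducible (Red.geomFibre s₀ P).hom isClosed_univ
      (IrreducibleSpace.isIrreducible_univ _)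
    exact ⟨d, (Dim.topologicalKrullDim_univ _).symm.trans hd⟩
  have hQ : ∃ d, Q d := by
    obtain ⟨d, hd⟩ := hdim G (𝟙 G) (isParabolic_id hG)
    exact ⟨d, G, inferInstance, 𝟙 G, isParabolic_id hG, hd⟩
  obtain ⟨P, iP, p, hp, hpd⟩ := Nat.find_spec hQ
  refine ⟨P, iP, p, hp, fun P₁ _ p₁ f hp₁ hf => ?_⟩
  obtain ⟨hm, hc, hs, -⟩ := id hp
  obtain ⟨hm₁, hc₁, hs₁, -⟩ := id hp₁
  haveI := hc; haveI := hs; haveI := hc₁; haveI := hs₁
  haveI : IsClosedImmersion (f.left ≫ p.left) := by rw [← Over.comp_left, hf]; infer_instance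
  haveI : IsClosedImmersion f.left := IsClosedImmersion.of_comp f.left p.left
  haveI : QuasiCompact P.hom := by rw [← Over.w p]; infer_instance
  haveI : QuasiCompact P₁.hom := by rw [← Over.w p₁]; infer_instance
  have hc0 := connectedSpace_geomFibre hG hp
  have hc1 := connectedSpace_geomFibre hG hp₁
  -- the dimensions agree at the chosen point, hence everywhere
  have hle : topologicalKrullDim ↥(Red.geomFibre s₀ P₁).left ≤ topologicalKrullDim ↥(Red.geomFibre s₀ P).left := by
    haveI : IsClosedImmersion ((Over.pullback (Red.geomPt s₀)).map f).left :=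
      MorphismProperty.of_isPullback (P := @IsClosedImmersion) (DiagGrp.isPullback_overMap f (Red.geomPt s₀)).flip ‹_›
    exact ((Over.pullback (Red.geomPt s₀)).map f).left.isClosedEmbedding.isInducing.topologicalKrullDim_le
  obtain ⟨d₁, hd₁⟩ := hdim P₁ p₁ hp₁
  have hmin : Nat.find hQ ≤ d₁ := Nat.find_min' hQ ⟨P₁, inferInstance, p₁, hp₁, hd₁⟩
  have h0 : topologicalKrullDim ↥(Red.geomFibre s₀ P₁).left = topologicalKrullDim ↥(Red.geomFibre s₀ P).left := by
    refine le_antisymm hle ?_
    rw [hpd, hd₁]
    exact_mod_cast hmin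
  have heq : ∀ s, topologicalKrullDim ↥(Red.geomFibre s P₁).left = topologicalKrullDim ↥(Red.geomFibre s P).left := by
    intro s
    calc _ = topologicalKrullDim ↥(Red.geomFibre s₀ P₁).left :=
          (isLocallyConstant_geomDim hc1).apply_eq_of_preconnectedSpace s s₀
      _ = _ := h0
      _ = _ := ((isLocallyConstant_geomDim hc0).apply_eq_of_preconnectedSpace s s₀).symm
  have hiso : IsIso f.left := by
    haveI : LocallyOfFinitePresentation (f.left ≫ P.hom) := by rw [Over.w f]; infer_instance
    haveI : Flat (f.left ≫ P.hom) := by rw [Over.w f]; infer_instance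
    refine FibreFlat.isIso_of_fibrewise f.left P.hom fun s => Flag27.isIso_fibre_of_geom f s ?_
    let g := (Over.pullback (Red.geomPt s)).map f
    haveI : IsClosedImmersion g.left :=
      MorphismProperty.of_isPullback (P := @IsClosedImmersion) (DiagGrp.isPullback_overMap f (Red.geomPt s)).flip ‹_›
    haveI := hc0 s
    haveI := hc1 s
    haveI : Smooth (Red.geomFibre s P).hom := MorphismProperty.pullback_snd _ _ inferInstance
    haveI : Smooth (g.left ≫ (Red.geomFibre s P).hom) := by
      rw [Over.w g]; exact MorphismProperty.pullback_snd _ _ inferInstance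
    haveI : IsIso g.left := isIso_of_dim_eq g.left (Red.geomFibre s P).hom (heq s)
    haveI : IsIso ((Over.forget _).map g) := ‹IsIso g.left›
    exact isIso_of_reflects_iso g (Over.forget _)
  haveI : IsIso ((Over.forget _).map f) := hiso
  exact isIso_of_reflects_iso f (Over.forget _)

end GrothLib.MinParablead
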